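import Cfsg.Agent.Lib.AltEightNine.Core.Main
import Cfsg.Agent.Lib.AltEightNine.Build.Glue
import Cfsg.Agent.Lib.AltEightNine.Local.One
import Cfsg.Agent.Lib.AltEightNine.Local.Three

/-!
# Groups with the centraliser of an involution isomorphic to the table group of the alternating branch
-/

set_option autoImplicit false
set_option linter.unusedSectionVars false

namespace Cfsg.Lib.AltEightNine

universe u

namespace TabSetup

variable {G : Type u} [Group G] [Finite G] (S : TabSetup G)

/-- A group with this centraliser and a conjugate of the involution in the core is `2^3 L_3(2)` or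
alternating of degree eight or nine. -/
theorem main (hnwc : ∃ (g : G) (i : Fin 192), (bCls i = 2 ∨ bCls i = 3 ∨ bCls i = 4) ∧ g * S.s * g⁻¹ = S.f i) :
    (∃ (N : Subgroup G) (hN : N.Normal), IsMulCommutative N ∧ (∀ n ∈ N, n ^ 2 = 1) ∧ Nat.card N = 8 ∧
        Nonempty (G ⧸ N ≃* Matrix.ProjectiveSpecialLinearGroup (Fin 3) (ZMod 2))) ∨
    Nonempty (G ≃* ↥(alternatingGroup (Fin 8))) ∨ Nonempty (G ≃* ↥(alternatingGroup (Fin 9))) := by
  obtain ⟨g, i, hi, hg⟩ := hnwc
  obtain ⟨T, h2, h | ⟨h3, h4, h5, h6⟩ | ⟨h3, h4, h5, h6⟩⟩ := S.normalise hi hg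
  · exact Or.inl (T.one_class h2 h)
  · exact Or.inr (exists_emb (S := T) ⟨h2, h3, h4, h5, h6⟩).some.classify
  · refine (T.three_classes fun k hk => ?_).elim
    simp only [List.mem_cons, List.not_mem_nil, or_false] at hk
    rcases hk with rfl | rfl | rfl | rfl | rfl <;> assumption

end TabSetup

end Cfsg.Lib.AltEightNine
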